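import Cfsg.Agent.Lib.Helper50.FOT.Defs

/-!
# Project FOT (S3999): package [ORD]
Element orders in a Frobenius group, and the count of `p`-elements for `p ∣ |K|`.
-/

set_option autoImplicit false
open scoped Pointwise

namespace Cfsg.Agent.Lib.Helper20.FOT

open Cfsg.Agent.Lib.Helper50.FOT

universe u

theorem pkgOrd : PkgOrd.{u} := by
  intro X _ _ K C hFD
  have hCord : ∀ (x g : X), x ∈ MulAut.conj g • C → orderOf x ∣ Nat.card C := by
    intro x g hx
    rw [Subgroup.mem_pointwise_smul_iff_inv_smul_mem] at hx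
    have h2 := orderOf_dvd_natCard (⟨_, hx⟩ : C)
    rw [Subgroup.orderOf_mk] at h2
    have h3 : orderOf ((MulAut.conj g)⁻¹ • x) = orderOf x :=
      orderOf_injective ((MulAut.conj g)⁻¹ : MulAut X).toMonoidHom (MulEquiv.injective _) x
    rwa [h3] at h2
  have hdiv : ∀ x : X, orderOf x ∣ Nat.card K ∨ orderOf x ∣ Nat.card C := by
    intro x
    rcases hFD.cover x with hx | ⟨g, hx⟩
    · left
      have := orderOf_dvd_natCard (⟨x, hx⟩ : K)
      rwa [Subgroup.orderOf_mk] at this
    · right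
      exact hCord x g hx
  refine ⟨hdiv, ?_⟩
  intro p hp hpK
  haveI : Fact p.Prime := ⟨hp⟩
  haveI := hFD.nilp
  have htfae := (Group.isNilpotent_of_finite_tfae (G := K)).out 0 3
  have hnorm : ∀ P : Sylow p K, (P : Subgroup K).Normal := fun P =>
    (htfae.mp hFD.nilp) p ⟨hp⟩ P
  obtain ⟨P⟩ : Nonempty (Sylow p K) := inferInstance
  have hPn := hnorm P
  have hPc : Nat.card P = p ^ (Nat.card K).factorization p := Sylow.card_eq_multiplicity P
  have hpowK : p ^ (Nat.card K).factorization p ∣ Nat.card K := Nat.ordProj_dvd _ p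
  have hmem : ∀ y : P, orderOf ((y : K) : X) ∣ p ^ (Nat.card K).factorization p := by
    intro y
    rw [Subgroup.orderOf_coe, ← hPc]
    have := orderOf_dvd_natCard y
    rwa [← Subgroup.orderOf_coe] at this
  refine ((Nat.card_congr (Equiv.ofBijective
    (fun y : P => (⟨((y : K) : X), hmem y⟩ :
      {x : X // orderOf x ∣ p ^ (Nat.card K).factorization p})) ⟨?_, ?_⟩)).symm).trans hPc
  · intro y z hyz
    have := congrArg Subtype.val hyz
    exact Subtype.ext (Subtype.ext this)
  · rintro ⟨x, hx⟩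
    have hxK : x ∈ K := by
      rcases hFD.cover x with hxK | ⟨g, hg⟩
      · exact hxK
      · have h1 := hCord x g hg
        have h2 : orderOf x ∣ Nat.card K := hx.trans hpowK
        have h3 : orderOf x = 1 := Nat.eq_one_of_dvd_coprimes hFD.cop h2 h1
        rw [orderOf_eq_one_iff] at h3
        rw [h3]; exact K.one_mem
    obtain ⟨j, -, hj⟩ := (Nat.dvd_prime_pow hp).mp hx
    have hpg : IsPGroup p (Subgroup.zpowers (⟨x, hxK⟩ : K)) := by
      refine IsPGroup.of_card (n := j) ?_
      rw [Nat.card_zpowers, Subgroup.orderOf_mk, hj]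
    obtain ⟨Q, hQ⟩ := hpg.exists_le_sylow
    haveI := Sylow.unique_of_normal P hPn
    have hQP : Q = P := Subsingleton.elim _ _
    have hkP : (⟨x, hxK⟩ : K) ∈ (P : Subgroup K) := by
      rw [← hQP]; exact hQ (Subgroup.mem_zpowers _)
    exact ⟨⟨⟨x, hxK⟩, hkP⟩, rfl⟩

end Cfsg.Agent.Lib.Helper20.FOT
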